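import Cfsg.Agent.FusionThompson.Quadratic
import Cfsg.Agent.FusionAgemo.Induction
import Cfsg.Agent.Fusion.NormalizerSaturated
import Cfsg.Agent.Fusion.NormalSubgroup
import Mathlib.Data.Set.Card

/-!
# `F = ⟨C_F(℧₁(Z(S))), N_F(J(S))⟩`

Induction on the set of maps of a saturated system.
-/

set_option autoImplicit false
set_option linter.style.haveILetI false

namespace CfsgLib.FusionThompson

open Cfsg Cfsg.FusionSystem CfsgLib.Fusion CfsgLib.FusionAgemo

variable {Ω : Type*} [Group Ω] {p : ℕ}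

/-- All maps of a system. -/
def mapSet {M : Subgroup Ω} (G : FusionSystem M) : Set (Σ P : Subgroup Ω, P →* Ω) :=
  {x | x.2 ∈ G.Hom x.1}

theorem mapSet_finite {M : Subgroup Ω} [Finite M] (G : FusionSystem M) : (mapSet G).Finite := by
  classical
  let f : mapSet G → Set (M × M) := fun x =>
    {q | ∃ h : (q.1 : Ω) ∈ x.1.1, x.1.2 ⟨q.1, h⟩ = (q.2 : Ω)}
  have hinj : Function.Injective f := by
    rintro ⟨⟨P, φ⟩, hφ⟩ ⟨⟨P', φ'⟩, hφ'⟩ h
    obtain rfl : P = P' := by
      ext y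
      constructor
      · intro hy
        have h1 : ((⟨y, le_left hφ hy⟩ : M), (⟨φ ⟨y, hy⟩, apply_mem hφ _⟩ : M)) ∈
            f ⟨⟨P, φ⟩, hφ⟩ := ⟨hy, rfl⟩
        rw [h] at h1
        exact h1.1
      · intro hy
        have h1 : ((⟨y, le_left hφ' hy⟩ : M), (⟨φ' ⟨y, hy⟩, apply_mem hφ' _⟩ : M)) ∈
            f ⟨⟨P', φ'⟩, hφ'⟩ := ⟨hy, rfl⟩
        rw [← h] at h1
        exact h1.1
    obtain rfl : φ = φ' := by
      ext y
      have h1 : ((⟨y, le_left hφ y.2⟩ : M), (⟨φ y, apply_mem hφ _⟩ : M)) ∈ f ⟨⟨P, φ⟩, hφ⟩ :=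
        ⟨y.2, rfl⟩
      rw [h] at h1
      obtain ⟨_, h2⟩ := h1
      exact h2.symm
    rfl
  exact Set.finite_coe_iff.1 (Finite.of_injective f hinj)

/-- The second centre: `M ∩ C(M)`. -/
abbrev zIn (M : Subgroup Ω) : Subgroup Ω := M ⊓ Subgroup.centralizer (M : Set Ω)

/-- `℧₁(Z(M))`. -/
abbrev agemoZ (p : ℕ) (M : Subgroup Ω) : Subgroup Ω := powerClosure p 1 (zIn M)

theorem agemoZ_le_zIn (p : ℕ) (M : Subgroup Ω) : agemoZ p M ≤ zIn M :=
  (Subgroup.closure_le _).2 fun _ ⟨_, hx, hy⟩ => hy ▸ pow_mem hx _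

theorem agemoZ_le_of_zIn_le {M M' : Subgroup Ω} (p : ℕ) (h : zIn M ≤ zIn M') :
    agemoZ p M ≤ agemoZ p M' :=
  Subgroup.closure_mono fun _ ⟨x, hx, hy⟩ => ⟨x, h hx, hy⟩

theorem zIn_le_zIn_normalizerIn {M W : Subgroup Ω} (hW : W ≤ M) :
    zIn M ≤ zIn (normalizerIn M W) := fun z hz => by
  obtain ⟨hz1, hz2⟩ := Subgroup.mem_inf.1 hz
  exact ⟨centralizerIn_le_normalizerIn M W (mem_centralizerIn'.2 ⟨hz1, fun w hw => by
    rw [← Subgroup.mem_centralizer_iff.1 hz2 w (hW hw), mul_inv_cancel_right]⟩),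
    Subgroup.centralizer_le (normalizerIn_le M W) hz2⟩

theorem zIn_le_thompson {M : Subgroup Ω} [Finite M] :
    zIn M ≤ thompsonSubgroupAOf M := by
  obtain ⟨A, hA⟩ := CfsgLib.PLocal.maxAbIn_nonempty (⊤ : Subgroup M)
  rw [← CfsgLib.PLocal.maxAb_eq_maxAbIn_top] at hA
  intro z hz
  refine ⟨⟨z, hz.1⟩, ?_, rfl⟩
  refine (le_sSup hA : A ≤ thompsonSubgroupA M) ?_
  have hzc : (⟨z, hz.1⟩ : M) ∈ Subgroup.center M := Subgroup.mem_center_iff.2 fun y =>
    Subtype.ext (Subgroup.mem_centralizer_iff.1 hz.2 y y.2)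
  haveI := hA.1
  have hsup : IsMulCommutative ↥(A ⊔ Subgroup.center M) :=
    CfsgLib.PLocal.isMulCommutative_sup hA.1 inferInstance fun a _ => Subgroup.mem_centralizer_iff.2
      fun c hc => (Subgroup.mem_center_iff.1 hc a).symm
  have heq : A = A ⊔ Subgroup.center M :=
    Subgroup.eq_of_le_of_card_ge le_sup_left (hA.2 _ hsup)
  exact heq ▸ (Subgroup.mem_sup_right hzc : (⟨z, hz.1⟩ : M) ∈ A ⊔ Subgroup.center M)

theorem le_normalizer_centralizerIn {M U : Subgroup Ω}
    (h : M ≤ Subgroup.normalizer (U : Set Ω)) :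
    M ≤ Subgroup.normalizer (centralizerIn M U : Set Ω) := by
  intro m hm
  rw [Subgroup.mem_normalizer_iff]
  intro x
  rw [mem_centralizerIn', mem_centralizerIn']
  constructor
  · rintro ⟨hxM, hx⟩
    refine ⟨M.mul_mem (M.mul_mem hm hxM) (M.inv_mem hm), fun u hu => ?_⟩
    have h1 := hx _ ((Subgroup.mem_normalizer_iff''.1 (h hm) u).1 hu)
    calc m * x * m⁻¹ * u * (m * x * m⁻¹)⁻¹
        = m * (x * (m⁻¹ * u * m) * x⁻¹) * m⁻¹ := by simp [mul_assoc]
      _ = u := by rw [h1]; simp [mul_assoc]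
  · rintro ⟨hxM, hx⟩
    have hx' : x ∈ M := by
      simpa [mul_assoc] using M.mul_mem (M.mul_mem (M.inv_mem hm) hxM) hm
    refine ⟨hx', fun u hu => ?_⟩
    have h1 := hx _ ((Subgroup.mem_normalizer_iff.1 (h hm) u).1 hu)
    have h2 : m * (x * u * x⁻¹) * m⁻¹ = m * u * m⁻¹ := by
      rw [← h1]; simp [mul_assoc]
    exact mul_left_cancel (mul_right_cancel h2)

theorem thompsonSubgroupAOf_eq_of_le_finite {Q M : Subgroup Ω} [Finite M] (hQM : Q ≤ M)
    (hJ : thompsonSubgroupA M ≤ Q.subgroupOf M) :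
    thompsonSubgroupAOf Q = thompsonSubgroupAOf M := by
  have hJ' : thompsonSubgroupAOf (⊤ : Subgroup M) ≤ Q.subgroupOf M := by
    rwa [CfsgLib.PLocal.thompsonSubgroupAOf_top]
  have h := congrArg (Subgroup.map M.subtype)
    (CfsgLib.PLocal.thompsonSubgroupAOf_eq_of_le (le_top : Q.subgroupOf M ≤ ⊤) hJ')
  rwa [CfsgLib.PLocal.map_thompsonSubgroupAOf M.subtype_injective,
    CfsgLib.PLocal.map_thompsonSubgroupAOf M.subtype_injective, Subgroup.subgroupOf_map_subtype,
    inf_eq_left.2 hQM, ← MonoidHom.range_eq_map, Subgroup.range_subtype] at h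

/-- A normal subgroup containing `Z(M)` gives the decomposition. -/
theorem mem_of_normal {M : Subgroup Ω} [Finite M] [Fact p.Prime] (hM : IsPGroup p M)
    {G : FusionSystem M} (hG : G.IsSaturated p) {T : Subgroup Ω} (E : FusionSystem T)
    (hC : ∀ P, G.centralizerHom (agemoZ p M) P ⊆ E.Hom P)
    (hN : ∀ P, G.normalizerHom (thompsonSubgroupAOf M) P ⊆ E.Hom P)
    {Q : Subgroup Ω} (hQ : G.IsNormal Q) (hZQ : zIn M ≤ Q)
    (hrec : ∀ R : Subgroup Ω, Q < R → R ≤ M → M ≤ Subgroup.normalizer (R : Set Ω) →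
      ∀ P, G.normalizerHom R P ⊆ E.Hom P)
    (P : Subgroup Ω) (φ : P →* Ω) (hφ : φ ∈ G.Hom P) : φ ∈ E.Hom P := by
  classical
  obtain ⟨χ, hχ, hχP, hχQ⟩ := exists_normal_extension hQ hφ
  refine mem_of_agree (h := (le_sup_left : P ≤ P ⊔ Q)) ?_ fun x => (hχP x).symm
  clear hφ φ hχP
  -- now the source contains `Q`
  revert χ
  generalize hD : P ⊔ Q = D
  intro χ hχ hχQ
  have hQD : Q ≤ D := hD ▸ le_sup_right
  have hQM : Q ≤ M := hQ.1
  haveI := finite_of_le hQM
  -- `U = ℧₁(Z(Q))` is normal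
  set U := agemoZ p Q with hUdef
  have hUQ : U ≤ Q := (agemoZ_le_zIn p Q).trans inf_le_left
  have hUchar : (U.subgroupOf Q).Characteristic := by
    refine Subgroup.characteristic_iff_le_comap.2 fun α u hu => ?_
    have key : U ≤ ((U.subgroupOf Q).comap α.toMonoidHom).map Q.subtype := by
      refine (Subgroup.closure_le _).2 ?_
      rintro _ ⟨x, hx, rfl⟩
      refine ⟨(⟨x, hx.1⟩ : Q) ^ (p ^ 1), ?_, rfl⟩
      show ((α ((⟨x, hx.1⟩ : Q) ^ (p ^ 1)) : Q) : Ω) ∈ U
      rw [map_pow]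
      refine Subgroup.subset_closure ⟨((α ⟨x, hx.1⟩ : Q) : Ω), ⟨(α _).2,
        Subgroup.mem_centralizer_iff.2 fun w hw => ?_⟩, rfl⟩
      obtain ⟨w', hw'⟩ := α.surjective ⟨w, hw⟩
      have h := congrArg α (Subtype.ext (Subgroup.mem_centralizer_iff.1 hx.2 w' w'.2) :
        w' * ⟨x, hx.1⟩ = ⟨x, hx.1⟩ * w')
      rw [map_mul, map_mul, hw'] at h
      exact congrArg Subtype.val h
    obtain ⟨u', hu', huu⟩ := key hu
    rwa [Subtype.ext huu] at hu'
  have hUn : G.IsNormal U := isNormal_of_characteristic hQ hUQ hUchar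
  have hZU : agemoZ p M ≤ U := agemoZ_le_of_zIn_le p fun z hz =>
    ⟨hZQ hz, Subgroup.centralizer_le hQM hz.2⟩
  -- `S₀ = C_M(U)` contains `Q`
  set S₀ := centralizerIn M U with hS0
  have hQS0 : Q ≤ S₀ := fun q hq => mem_centralizerIn'.2 ⟨hQM hq, fun u hu => by
    rw [Subgroup.mem_centralizer_iff.1 ((agemoZ_le_zIn p Q) hu).2 q hq, mul_inv_cancel_right]⟩
  have hUsc := stronglyClosed_of_normal hUn
  have hMnS0 : M ≤ Subgroup.normalizer (S₀ : Set Ω) :=
    le_normalizer_centralizerIn (stronglyClosed_le_normalizer hUsc)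
  by_cases hS0Q : S₀ = Q
  · -- `J(M) ≤ Q`
    have hJ : thompsonSubgroupA M ≤ (Q.subgroupOf M) := by
      haveI : (zIn Q |>.subgroupOf M).Normal := by
        refine ⟨fun z hz m => ?_⟩
        have hm := stronglyClosed_le_normalizer (stronglyClosed_of_normal hQ) m.2
        refine ⟨(Subgroup.mem_normalizer_iff.1 hm _).1 hz.1,
          Subgroup.mem_centralizer_iff.2 fun w hw => ?_⟩
        have h1 := Subgroup.mem_centralizer_iff.1 hz.2 _ ((Subgroup.mem_normalizer_iff''.1 hm w).1 hw)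
        show w * ((m : Ω) * z * (m : Ω)⁻¹) = (m : Ω) * z * (m : Ω)⁻¹ * w
        calc w * ((m : Ω) * z * (m : Ω)⁻¹)
            = (m : Ω) * ((m : Ω)⁻¹ * w * m * z) * (m : Ω)⁻¹ := by simp [mul_assoc]
          _ = (m : Ω) * (z * ((m : Ω)⁻¹ * w * m)) * (m : Ω)⁻¹ :=
              congrArg (fun t : Ω => (m : Ω) * t * (m : Ω)⁻¹) h1
          _ = (m : Ω) * z * (m : Ω)⁻¹ * w := by simp [mul_assoc]
      have hker : ∀ a : M, (∀ v ∈ (zIn Q).subgroupOf M, a * v ^ p = v ^ p * a) → (a : Ω) ∈ Q := by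
        intro a ha
        rw [← hS0Q, hS0]
        refine Subgroup.mem_inf.2 ⟨a.2, ?_⟩
        have hle : U ≤ Subgroup.centralizer {(a : Ω)} := by
          refine (Subgroup.closure_le _).2 ?_
          rintro _ ⟨x, hx, rfl⟩
          rw [SetLike.mem_coe, Subgroup.mem_centralizer_singleton_iff, pow_one]
          exact (congrArg Subtype.val (ha ⟨x, hQM hx.1⟩ hx)).symm
        rw [Subgroup.mem_centralizer_iff]
        exact fun u hu => Subgroup.mem_centralizer_singleton_iff.1 (hle hu)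
      have hJc := thompsonSubgroupA_le_centralizer hM ((zIn Q).subgroupOf M)
        (fun u hu v hv => Subtype.ext (Subgroup.mem_centralizer_iff.1 hv.2 u hu.1)) fun a ha => by
          rw [Subgroup.mem_centralizer_iff]
          intro v hv
          exact Subtype.ext (Subgroup.mem_centralizer_iff.1 hv.2 a (hker a ha)).symm
      intro a ha
      refine hker a fun v hv => ?_
      exact ((Commute.pow_right (show Commute a v from
        (Subgroup.mem_centralizer_iff.1 (hJc ha) v hv).symm) p)).eq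
    have hJQ : thompsonSubgroupAOf M ≤ Q := by
      rintro _ ⟨a, ha, rfl⟩
      exact hJ ha
    have hJn : G.IsNormal (thompsonSubgroupAOf M) := by
      rw [← thompsonSubgroupAOf_eq_of_le_finite hQM hJ]
      refine isNormal_of_characteristic hQ (CfsgLib.PLocal.thompsonSubgroupAOf_le Q) ?_
      show ((thompsonSubgroupA ↥Q).map Q.subtype |>.subgroupOf Q).Characteristic
      rw [Subgroup.subgroupOf, Subgroup.comap_map_eq_self_of_injective Q.subtype_injective]
      exact CfsgLib.PLocal.thompsonSubgroupACharacteristic ↥Q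
    obtain ⟨ω, hω, hωD, hωJ⟩ := exists_normal_extension hJn hχ
    have hJnorm := stronglyClosed_le_normalizer (stronglyClosed_of_normal hJn)
    exact hN D ⟨hχ, le_inf (le_left hχ) ((le_left hχ).trans hJnorm),
      fun x => ⟨apply_mem hχ x, hJnorm (apply_mem hχ x)⟩, ω, hω, hωD, hωJ⟩
  have hlt : Q < S₀ := lt_of_le_of_ne hQS0 (Ne.symm hS0Q)
  have hS0M : S₀ ≤ M := centralizerIn_le M U
  -- the part normalising `S₀`
  have hUD : U ≤ D := hUQ.trans hQD
  have hχU : imgHom χ U = U := by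
    haveI := finite_of_le hUn.1
    haveI : Finite ↥(imgHom χ U) := Nat.finite_of_card_ne_zero (by
      rw [card_imgHom (G.injective_of_mem hχ) hUD]; exact Nat.card_pos.ne')
    refine Subgroup.eq_of_le_of_card_ge ?_ (card_imgHom (G.injective_of_mem hχ) hUD).ge
    rintro _ ⟨x, hx, rfl⟩
    exact stronglyClosed_apply hUsc hχ hx
  obtain ⟨e, he, heχ⟩ := exists_iso (restrict_mem hχ hUD) ((range_restrictHom χ _).trans hχU)
  have hUfc : G.IsFullyCentralized U := ⟨hUn.1, fun R hR => by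
    obtain ⟨θ, hθ, hr⟩ := hR
    haveI := finite_of_le hUn.1
    have hRU : R = U := hr ▸ Subgroup.eq_of_le_of_card_ge (H := θ.range) (K := U) (by
      rintro _ ⟨x, rfl⟩
      exact hUsc.2 U le_rfl θ hθ x) (Nat.card_congr
        (MonoidHom.ofInjective (G.injective_of_mem hθ)).toEquiv).le
    rw [hRU]⟩
  have hext : D ⊔ S₀ ≤ extender M U (U.subtype.comp e.toMonoidHom) := by
    refine sup_le (fun d hd => ?_) (centralizerIn_le_extender _)
    exact inf_normalizer_le_extender hχ hUD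
      (fun x => by rw [← restrictHom_apply χ hUD x, ← heχ x]; rfl)
      ⟨hd, stronglyClosed_le_normalizer hUsc (le_left hχ hd)⟩
  obtain ⟨ν, hν, hνe⟩ := exists_extension (receptive_of_fullyCentralized hM hG hUfc) he hext
  have hνS0 : imgHom ν S₀ = S₀ := by
    haveI := finite_of_le hS0M
    haveI : Finite ↥(imgHom ν S₀) := Nat.finite_of_card_ne_zero (by
      rw [card_imgHom (G.injective_of_mem hν) le_sup_right]; exact Nat.card_pos.ne')
    refine Subgroup.eq_of_le_of_card_ge ?_ (card_imgHom (G.injective_of_mem hν) le_sup_right).ge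
    rintro _ ⟨x, hx, rfl⟩
    refine Subgroup.mem_inf.2 ⟨apply_mem hν x, ?_⟩
    have hUW : U ≤ D ⊔ S₀ := hUD.trans le_sup_left
    have h := map_mem_centralizer hUW (ψ := ν) (g := x) (mem_centralizerIn.1 hx).2
    rwa [imgHom_eq_of_agree hUW hνe] at h
  have hνN : restrictHom ν le_sup_left ∈ G.normalizerHom S₀ D :=
    ⟨restrict_mem hν _, le_inf (le_left hχ) ((le_left hχ).trans hMnS0),
      fun x => ⟨apply_mem hν _, hMnS0 (apply_mem hν _)⟩, ν, hν, fun x => rfl, hνS0⟩
  have hνE := hrec S₀ hlt hS0M hMnS0 D hνN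
  -- the part centralising `U`
  obtain ⟨n, hn, hnν⟩ := exists_iso_range (restrict_mem hν (le_sup_left : D ≤ D ⊔ S₀))
  obtain ⟨c, hc, hcχ⟩ := exists_iso_range hχ
  set κ := n.symm.trans c with hκ
  have hκG : IsIso G κ := hn.symm.trans hc
  have hagree : ∀ u : U, ν ⟨u, Subgroup.mem_sup_left (hUD u.2)⟩ = χ ⟨u, hUD u.2⟩ := fun u => by
    rw [hνe u _, heχ u]
    rfl
  have hUr : ∀ u : U, (u : Ω) ∈ (restrictHom ν (le_sup_left : D ≤ D ⊔ S₀)).range := by
    intro u
    refine ⟨⟨(e.symm u : U), hUD (e.symm u).2⟩, ?_⟩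
    rw [restrictHom_apply]
    refine (hagree (e.symm u)).trans ?_
    have h := heχ (e.symm u)
    rw [MulEquiv.apply_symm_apply] at h
    exact h.symm
  have hκfix : ∀ (y : ↥(restrictHom ν (le_sup_left : D ≤ D ⊔ S₀)).range), (y : Ω) ∈ U →
      (κ y : Ω) = y := by
    intro y hy
    obtain ⟨d, rfl⟩ := n.surjective y
    have hd : (d : Ω) ∈ U := by
      have h := hnν d
      rw [restrictHom_apply] at h
      rw [h] at hy
      exact (stronglyClosed_apply_iff hUsc hν).1 hy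
    show ((c (n.symm (n d)) : χ.range) : Ω) = (n d : Ω)
    rw [MulEquiv.symm_apply_apply, hcχ, hnν, restrictHom_apply]
    exact (hagree ⟨d, hd⟩).symm
  have hκE : IsIso E κ := by
    refine hC _ ?_
    have hyM : ∀ y, y ∈ M → y ∈ centralizerIn M (agemoZ p M) := fun y hy =>
      mem_centralizerIn'.2 ⟨hy, fun z hz => by
        rw [Subgroup.mem_centralizer_iff.1 ((agemoZ_le_zIn p M) hz).2 y hy, mul_inv_cancel_right]⟩
    have hle : (restrictHom ν (le_sup_left : D ≤ D ⊔ S₀)).range ⊔ agemoZ p M =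
        (restrictHom ν (le_sup_left : D ≤ D ⊔ S₀)).range :=
      sup_eq_left.2 fun z hz => hUr ⟨z, hZU hz⟩
    refine ⟨hκG, fun y hy => hyM y (hκG.le_left hy), fun y => hyM _ (apply_mem hκG y),
      restrictHom _ hle.le, restrict_mem hκG hle.le, fun y => rfl, fun z => ?_⟩
    rw [restrictHom_apply]
    exact hκfix ⟨z, _⟩ (hZU z.2)
  have hnE : IsIso E n := mem_congr hνE fun d => hnν d
  refine mem_congr (hnE.trans hκE) fun d => ?_
  show χ d = ((c (n.symm (n d)) : χ.range) : Ω)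
  rw [MulEquiv.symm_apply_apply, hcχ]

/-- Theorem: a saturated system is generated by `C_F(℧₁(Z(S)))` and `N_F(J(S))`. -/
theorem subset_of_parts [Fact p.Prime] : ∀ (k : ℕ) {M : Subgroup Ω} [Finite M] (_ : IsPGroup p M)
    (G : FusionSystem M), G.IsSaturated p → (mapSet G).ncard = k →
    ∀ {T : Subgroup Ω} (E : FusionSystem T),
      (∀ P, G.centralizerHom (agemoZ p M) P ⊆ E.Hom P) →
      (∀ P, G.normalizerHom (thompsonSubgroupAOf M) P ⊆ E.Hom P) →
      G.IsSubsystemOf E := by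
  intro k
  induction k using Nat.strong_induction_on with
  | _ k ih =>
  intro M _ hM G hG hk T E hC hN
  classical
  -- apply the induction hypothesis to the normaliser of a non-normal subgroup
  have hIH : ∀ W : Subgroup Ω, G.IsFullyNormalized W → ¬ G.IsNormal W →
      ∀ {T' : Subgroup Ω} (E' : FusionSystem T'),
      (∀ P, G.centralizerHom (agemoZ p M) P ⊆ E'.Hom P) →
      (∀ P, G.normalizerHom (thompsonSubgroupAOf (normalizerIn M W)) P ⊆ E'.Hom P) →
      ∀ P, G.normalizerHom W P ⊆ E'.Hom P := by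
    intro W hW hWn T' E' hC' hN' P φ hφ
    obtain ⟨NW, hNW⟩ := exists_isNormalizerSystem G hW.1
    haveI := finite_of_le (normalizerIn_le M W)
    have hsub : ∀ R, NW.Hom R ⊆ G.Hom R := fun R ψ hψ => ((hNW R) ▸ hψ).1
    have hlt : (mapSet NW).ncard < k := by
      rw [← hk]
      refine Set.ncard_lt_ncard ⟨fun x hx => hsub x.1 hx, fun hle => hWn ?_⟩ (mapSet_finite G)
      refine ⟨hW.1, fun R ψ hψ => ?_⟩
      have h := hle (show (⟨R, ψ⟩ : Σ P : Subgroup Ω, P →* Ω) ∈ mapSet G from hψ)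
      have h' : ψ ∈ G.normalizerHom W R := (hNW R) ▸ h
      exact h'.2.2.2
    have hNWs : NW.IsSaturated p := isSaturated_normalizerSystem hM hG hW hNW
    refine ih _ hlt (hM.to_le (normalizerIn_le M W)) NW hNWs rfl E' ?_ ?_ P ((hNW P).symm ▸ hφ)
    · intro R ψ hψ
      obtain ⟨hψ1, hψ2, hψ3, ω, hω, hωR, hωfix⟩ := hψ
      have hψG := hsub R hψ1
      have hzle : zIn M ≤ zIn (normalizerIn M W) := zIn_le_zIn_normalizerIn hW.1
      have hAle := agemoZ_le_of_zIn_le p hzle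
      have hyM : ∀ y, y ∈ M → y ∈ centralizerIn M (agemoZ p M) := fun y hy =>
        mem_centralizerIn'.2 ⟨hy, fun z hz => by
          rw [Subgroup.mem_centralizer_iff.1 ((agemoZ_le_zIn p M) hz).2 y hy, mul_inv_cancel_right]⟩
      refine hC' R ⟨hψG, fun y hy => hyM y (le_left hψG hy), fun y => hyM _ (apply_mem hψG y),
        restrictHom ω (sup_le_sup_left hAle R), restrict_mem (hsub _ hω) _, fun y => ?_, fun z => ?_⟩
      · rw [restrictHom_apply]; exact hωR y
      · rw [restrictHom_apply]; exact hωfix ⟨z, hAle z.2⟩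
    · intro R ψ hψ
      obtain ⟨hψ1, hψ2, hψ3, ω, hω, hωR, hωJ⟩ := hψ
      exact hN' R ⟨hsub R hψ1, fun y hy => ⟨(hψ2 hy).1.1, (hψ2 hy).2⟩,
        fun y => ⟨(hψ3 y).1.1, (hψ3 y).2⟩, ω, hsub _ hω, hωR, hωJ⟩
  by_cases hA : ∃ Q, G.IsNormal Q ∧ zIn M ≤ Q
  · -- a maximal normal subgroup containing the centre
    obtain ⟨Q₀, hQ₀⟩ := hA
    obtain ⟨Q, ⟨hQ, hZQ⟩, hmax⟩ := Set.exists_max_image
      {Q : Subgroup Ω | G.IsNormal Q ∧ zIn M ≤ Q} (fun Q => Nat.card Q)
      ((finite_subgroups (S := M)).subset fun Q hQ => hQ.1.1) ⟨Q₀, hQ₀⟩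
    intro P φ hφ
    refine mem_of_normal hM hG E hC hN hQ hZQ (fun R hQR hRM hMR => ?_) P φ hφ
    have hRfn : G.IsFullyNormalized R := ⟨hRM, fun Q' _ => by
      haveI := finite_of_le (normalizerIn_le M R)
      exact Subgroup.card_le_of_le fun x hx => ⟨hx.1, hMR hx.1⟩⟩
    have hRn : ¬ G.IsNormal R := fun h => by
      haveI := finite_of_le hRM
      exact hQR.ne (Subgroup.eq_of_le_of_card_ge hQR.le (hmax R ⟨h, hZQ.trans hQR.le⟩))
    refine hIH R hRfn hRn E hC ?_
    rw [show normalizerIn M R = M from le_antisymm (normalizerIn_le M R) (le_inf le_rfl hMR)]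
    exact hN
  push Not at hA
  -- normalisers of non-normal subgroups
  have hclaim : ∀ (d : ℕ) (W : Subgroup Ω) (b : ℕ),
      Nat.card M - Nat.card (normalizerIn M W) ≤ d → G.IsFullyNormalized W → ¬ G.IsNormal W →
      b ≤ Nat.card (normalizerIn M W) →
      (∀ R : Subgroup Ω, b < Nat.card R → ∀ ψ ∈ G.Hom R, ψ ∈ E.Hom R) →
      ∀ P, G.normalizerHom W P ⊆ E.Hom P := by
    intro d
    induction d using Nat.strong_induction_on with
    | _ d ihd =>
    intro W b hd hW hWn hb habove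
    refine hIH W hW hWn E hC ?_
    set M' := normalizerIn M W with hM'def
    have hM'M : M' ≤ M := normalizerIn_le M W
    haveI := finite_of_le hM'M
    by_cases hM'eq : M' = M
    · rw [hM'eq]; exact hN
    set W₁ := thompsonSubgroupAOf M' with hW1
    have hW1M : W₁ ≤ M := (CfsgLib.PLocal.thompsonSubgroupAOf_le M').trans hM'M
    have hgrow : Nat.card M' < Nat.card (normalizerIn M W₁) := by
      haveI := finite_of_le (normalizerIn_le M W₁)
      refine (card_lt_normalizerIn hM hM'M hM'eq).trans_le (Subgroup.card_le_of_le ?_)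
      exact inf_le_inf_left _ (CfsgLib.PLocal.normalizer_le_normalizer_thompsonSubgroupAOf M')
    have hW1n : ¬ G.IsNormal W₁ := fun h => hA W₁ h (by
      exact (zIn_le_zIn_normalizerIn hW.1).trans zIn_le_thompson)
    obtain ⟨Q₁, hconj, hQ1⟩ := exists_fullyNormalized (F := G) hW1M
    obtain ⟨hQ1a, hQ1r⟩ := automized_receptive hM hG hQ1
    obtain ⟨β, hβ, hβN, hβW⟩ := exists_map_normalizerIn hM hQ1a hQ1r hconj
    have hQ1n : ¬ G.IsNormal Q₁ := fun h => by
      obtain ⟨θ, hθ, hr⟩ := isConj_symm hconj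
      haveI := finite_of_le h.1
      have hsc := stronglyClosed_of_normal h
      have heq : W₁ = Q₁ := hr ▸ Subgroup.eq_of_le_of_card_ge (H := θ.range) (K := Q₁) (by
        rintro _ ⟨x, rfl⟩
        exact hsc.2 Q₁ le_rfl θ hθ x) (Nat.card_congr
          (MonoidHom.ofInjective (G.injective_of_mem hθ)).toEquiv).le
      exact hW1n (heq ▸ h)
    have hN1 : Nat.card (normalizerIn M W₁) ≤ Nat.card (normalizerIn M Q₁) :=
      card_normalizerIn_le hβ hβN
    have hNM : Nat.card (normalizerIn M Q₁) ≤ Nat.card M :=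
      Subgroup.card_le_of_le (normalizerIn_le M Q₁)
    have hd' : Nat.card M - Nat.card (normalizerIn M Q₁) < d :=
      lt_of_lt_of_le (by omega) hd
    have hQ1E := ihd _ hd' Q₁ b le_rfl hQ1 hQ1n (by omega) habove
    have hβE : β ∈ E.Hom (normalizerIn M W₁) :=
      habove _ (by omega) β hβ
    -- transport along `β`
    rintro P φ ⟨hφ, hP, hφN, ω, hω, hωP, hωW⟩
    have hDle : P ⊔ W₁ ≤ normalizerIn M W₁ := sup_le hP (le_normalizerIn hW1M)
    have hωN : ∀ x, ω x ∈ normalizerIn M W₁ := by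
      intro x
      have h1 : ω x ∈ φ.range ⊔ W₁ :=
        range_extension hωP hωW ▸ (⟨x, rfl⟩ : ω x ∈ ω.range)
      refine sup_le ?_ (le_normalizerIn hW1M) h1
      rintro _ ⟨y, rfl⟩
      exact hφN y
    obtain ⟨a, ha, haω⟩ := exists_iso_range hω
    obtain ⟨b₁, hb1, hb1β⟩ := exists_iso_range (restrict_mem hβ hDle)
    have hrle : ω.range ≤ normalizerIn M W₁ := by rintro _ ⟨x, rfl⟩; exact hωN x
    obtain ⟨b₂, hb2, hb2β⟩ := exists_iso_range (restrict_mem hβ hrle)
    have hb1E : IsIso E b₁ := mem_congr (restrict_mem hβE hDle) fun x => hb1β x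
    have hb2E : IsIso E b₂ := mem_congr (restrict_mem hβE hrle) fun x => hb2β x
    set κ := b₁.symm.trans (a.trans b₂) with hκ
    have hκG : IsIso G κ := hb1.symm.trans (ha.trans hb2)
    have hQle : Q₁ ≤ (restrictHom β hDle).range := by
      rw [← hβW, range_restrictHom]
      exact imgHom_mono β le_sup_right
    have hsupeq : (restrictHom β hDle).range ⊔ Q₁ = (restrictHom β hDle).range :=
      sup_eq_left.2 hQle
    have hrN : ∀ {R : Subgroup Ω} (h : R ≤ normalizerIn M W₁),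
        (restrictHom β h).range ≤ normalizerIn M Q₁ := by
      intro R h
      rintro _ ⟨x, rfl⟩
      exact hβN _
    have hκE : IsIso E κ := by
      refine hQ1E _ ⟨hκG, hrN hDle, fun y => hrN hrle (κ y).2, restrictHom _ hsupeq.le,
        restrict_mem hκG hsupeq.le, fun y => rfl, ?_⟩
      haveI := finite_of_le hQ1.1
      refine Subgroup.eq_of_le_of_card_ge ?_ ?_
      · rintro _ ⟨y, hy, rfl⟩
        have hy' : (y : Ω) ∈ Q₁ := hy
        obtain ⟨w, hw, hwy⟩ := hβW.ge hy'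
        rw [restrictHom_apply]
        have hwD : (w : Ω) ∈ P ⊔ W₁ := Subgroup.mem_sup_right hw
        have e1 : b₁ ⟨w, hwD⟩ = ⟨(y : Ω), hsupeq.le y.2⟩ := Subtype.ext (by
          rw [hb1β, restrictHom_apply]; exact hwy)
        show (((b₁.symm.trans (a.trans b₂)) ⟨(y : Ω), hsupeq.le y.2⟩ : _) : Ω) ∈ Q₁
        rw [← e1]
        show ((b₂ (a (b₁.symm (b₁ ⟨w, hwD⟩))) : _) : Ω) ∈ Q₁
        rw [MulEquiv.symm_apply_apply, hb2β, restrictHom_apply, ← hβW]
        refine apply_mem_imgHom β ?_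
        show ((a ⟨w, hwD⟩ : ω.range) : Ω) ∈ W₁
        rw [haω]
        exact hωW.le ⟨⟨w, hwD⟩, hw, rfl⟩
      · refine le_of_eq ?_
        rw [Subgroup.card_map_of_injective
          (fun y y' h => Subtype.ext (congrArg Subtype.val
            (G.injective_of_mem (restrict_mem hκG hsupeq.le) h))),
          Nat.card_congr (Subgroup.subgroupOfEquivOfLe le_sup_right).toEquiv]
    have haE : IsIso E a := by
      refine mem_congr ((hb1E.trans hκE).trans hb2E.symm) fun x => ?_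
      show ((a x : ω.range) : Ω) = ((b₂.symm (κ (b₁ x)) : ω.range) : Ω)
      rw [hκ]
      simp
    refine mem_of_agree (h := (le_sup_left : P ≤ P ⊔ W₁)) haE fun x => ?_
    rw [← hωP x]
    exact (haω _).symm
  refine isSubsystemOf_of_aut hM hG fun R hR habove α hα => ?_
  obtain ⟨hRa, hRr⟩ := automized_receptive hM hG hR
  have hαiso : IsIso G α := (mem_autGroup_iff hR.1).1 hα
  by_cases hRM : R = M
  · subst hRM
    have hn : R ≤ Subgroup.normalizer (thompsonSubgroupAOf R : Set Ω) :=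
      Subgroup.le_normalizer.trans (CfsgLib.PLocal.normalizer_le_normalizer_thompsonSubgroupAOf R)
    have hsupeq : R ⊔ thompsonSubgroupAOf R = R :=
      sup_eq_left.2 (CfsgLib.PLocal.thompsonSubgroupAOf_le R)
    refine hN R ⟨hαiso, le_inf le_rfl hn, fun x => ⟨(α x).2, hn (α x).2⟩,
      restrictHom _ hsupeq.le, restrict_mem hαiso hsupeq.le, fun x => rfl, ?_⟩
    have h : (thompsonSubgroupA ↥R).map α.toMonoidHom = thompsonSubgroupA ↥R :=
      Subgroup.characteristic_iff_map_eq.1 inferInstance α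
    ext y
    constructor
    · rintro ⟨x, hx, rfl⟩
      obtain ⟨x', hx', hxx⟩ : (x : Ω) ∈ thompsonSubgroupAOf R := hx
      refine ⟨α x', h.le ⟨x', hx', rfl⟩, ?_⟩
      rw [restrictHom_apply]
      exact congrArg (fun w => ((α w : R) : Ω)) (Subtype.ext hxx : x' = ⟨(x : Ω), hsupeq.le x.2⟩)
    · rintro ⟨y', hy', rfl⟩
      obtain ⟨x', hx', rfl⟩ := h.ge hy'
      exact ⟨⟨(x' : Ω), Subgroup.mem_sup_left x'.2⟩, ⟨x', hx', rfl⟩, rfl⟩
  by_cases hZR : zIn M ≤ R
  · -- `R` is not normal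
    have hRn : ¬ G.IsNormal R := fun h => hA R h hZR
    haveI := finite_of_le (normalizerIn_le M R)
    refine hclaim _ R (Nat.card R) le_rfl hR hRn (Subgroup.card_le_of_le (le_normalizerIn hR.1))
      (fun R' h => habove R' h) R ?_
    have hsupeq : R ⊔ R = R := sup_idem R
    refine ⟨hαiso, le_normalizerIn hR.1, fun x => le_normalizerIn hR.1 (α x).2,
      restrictHom _ hsupeq.le, restrict_mem hαiso hsupeq.le, fun x => rfl, ?_⟩
    ext y
    constructor
    · rintro ⟨x, -, rfl⟩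
      exact (α ⟨(x : Ω), hsupeq.le x.2⟩).2
    · intro hy
      refine ⟨⟨(α.symm ⟨y, hy⟩ : R), Subgroup.mem_sup_left (α.symm ⟨y, hy⟩).2⟩,
        (α.symm ⟨y, hy⟩).2, ?_⟩
      show ((α (α.symm ⟨y, hy⟩) : R) : Ω) = y
      rw [MulEquiv.apply_symm_apply]
  · obtain ⟨z, hzZ, hzR⟩ := SetLike.not_le_iff_exists.1 hZR
    have hcom : ∀ x ∈ R, z * x * z⁻¹ = x := fun x hx => by
      rw [← Subgroup.mem_centralizer_iff.1 hzZ.2 x (hR.1 hx), mul_inv_cancel_right]
    have hzN : z ∈ normalizerIn M R :=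
      centralizerIn_le_normalizerIn M R (mem_centralizerIn'.2 ⟨hzZ.1, hcom⟩)
    refine aut_mem_of_moves hRr habove hα hzN hzR (c := 1)
      (fun x => by rw [MulAut.one_apply, hcom x x.2]) ?_
    rw [mul_one, mul_inv_cancel]
    exact one_mem _

end CfsgLib.FusionThompson
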