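import Cfsg.Agent.PLocal.GlaubermanZJ
import Cfsg.Prelude.Def_PLocal

/-!
# Abelian subgroups of largest order and the `p`-th powers of an abelian normal subgroup

If `V` is an abelian normal subgroup of a `p`-group `Y` and the elements centralising all `v ^ p`
centralise `V`, then `J(Y)` centralises `V`.
-/

set_option autoImplicit false

namespace CfsgLib.FusionThompson

open Cfsg CfsgLib.PLocal

variable {Y : Type*} [Group Y] {p : ℕ}

/-- An element which has a power `p` in `C(V)` and acts on `V` with `[v, a]` fixed by it centralises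
all `p`-th powers. -/
theorem commute_pow_of_quadratic {V : Subgroup Y} [V.Normal]
    (hVc : ∀ u ∈ V, ∀ v ∈ V, u * v = v * u) {a : Y}
    (hq : ∀ v ∈ V, Commute a (a * v * a⁻¹ * v⁻¹)) (hap : a ^ p ∈ Subgroup.centralizer (V : Set Y))
    {v : Y} (hv : v ∈ V) : a * v ^ p = v ^ p * a := by
  set n := a * v * a⁻¹ * v⁻¹ with hn
  have hnV : n ∈ V := mul_mem ((inferInstance : V.Normal).conj_mem v hv a) (inv_mem hv)
  have hnv : Commute n v := hVc n hnV v hv
  have han : a * v * a⁻¹ = n * v := by rw [hn, inv_mul_cancel_right]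
  have hfix : a * n * a⁻¹ = n := by rw [(hq v hv).eq, mul_inv_cancel_right]
  have hpow : ∀ k : ℕ, a ^ k * v * (a ^ k)⁻¹ = n ^ k * v := by
    intro k
    induction k with
    | zero => simp
    | succ k ih =>
      calc a ^ (k + 1) * v * (a ^ (k + 1))⁻¹ = a * (a ^ k * v * (a ^ k)⁻¹) * a⁻¹ := by
            rw [pow_succ']; simp [mul_assoc]
        _ = (a * n * a⁻¹) ^ k * (a * v * a⁻¹) := by rw [ih, conj_pow]; simp [mul_assoc]
        _ = n ^ (k + 1) * v := by rw [hfix, han, ← mul_assoc, ← pow_succ]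
  have h1 : n ^ p = 1 := by
    have h := hpow p
    rw [← Subgroup.mem_centralizer_iff.1 hap v hv, mul_inv_cancel_right] at h
    exact mul_eq_right.1 h.symm
  calc a * v ^ p = (a * v * a⁻¹) ^ p * a := by rw [conj_pow, inv_mul_cancel_right]
    _ = v ^ p * a := by rw [han, hnv.mul_pow, h1, one_mul]

theorem maxAb_le_centralizer [Finite Y] [Fact p.Prime] (hY : IsPGroup p Y) (V : Subgroup Y)
    [V.Normal] (hVc : ∀ u ∈ V, ∀ v ∈ V, u * v = v * u)
    (hker : ∀ a : Y, (∀ v ∈ V, a * v ^ p = v ^ p * a) → a ∈ Subgroup.centralizer (V : Set Y))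
    {A : Subgroup Y} (hA : A ∈ maxAbelianSubgroups Y) :
    A ≤ Subgroup.centralizer (V : Set Y) := by
  classical
  by_contra hAC
  obtain ⟨B, ⟨hB, hBC⟩, hmax⟩ := Set.exists_max_image
    {B : Subgroup Y | B ∈ maxAbelianSubgroups Y ∧ ¬ B ≤ Subgroup.centralizer (V : Set Y)}
    (fun B => Nat.card ↥(B ⊓ V)) (Set.toFinite _) ⟨A, hA, hAC⟩
  have hVV : ⁅V, V⁆ = ⊥ := Subgroup.commutator_eq_bot_iff_le_centralizer.2 fun u hu =>
    Subgroup.mem_centralizer_iff.2 fun v hv => hVc v hv u hu
  haveI : IsMulCommutative V := ⟨⟨fun u v => Subtype.ext (hVc u u.2 v v.2)⟩⟩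
  by_cases hVN : V ≤ Subgroup.normalizer (B : Set Y)
  · -- quadratic action
    obtain ⟨b, hbB, hbC⟩ := SetLike.not_le_iff_exists.1 hBC
    obtain ⟨k, hk⟩ := hY b
    have hex : ∃ j, b ^ (p ^ j) ∈ Subgroup.centralizer (V : Set Y) := ⟨k, hk ▸ one_mem _⟩
    rcases hf : Nat.find hex with _ | j
    · have h := Nat.find_spec hex
      rw [hf, pow_zero, pow_one] at h
      exact hbC h
    refine Nat.find_min hex (m := j) (by omega) (hker _ fun v hv => ?_)
    refine commute_pow_of_quadratic hVc ?_ ?_ hv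
    · intro u hu
      have h1 : u * (b ^ p ^ j)⁻¹ * u⁻¹ ∈ B :=
        (Subgroup.mem_normalizer_iff.1 (hVN hu) _).1 (inv_mem (pow_mem hbB _))
      have h2 : b ^ p ^ j * u * (b ^ p ^ j)⁻¹ * u⁻¹ ∈ B := by
        rw [mul_assoc, mul_assoc, ← mul_assoc u]
        exact mul_mem (pow_mem hbB _) h1
      exact congrArg Subtype.val (hB.1.is_comm.comm ⟨_, pow_mem hbB _⟩ ⟨_, h2⟩)
    · rw [← pow_mul, ← pow_succ, ← hf]
      exact Nat.find_spec hex
  · obtain ⟨b, hb, hbN, hbA⟩ := exists_repl_element (P := (⊤ : Subgroup Y)) (hY.to_subgroup ⊤)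
      le_top (Subgroup.normalizer_eq_top V).ge hVN
    have h := replData_of_pGroup (fun _ => inferInstance) (hY.to_subgroup ⊤) hB.1 le_top le_top
      (Subgroup.normalizer_eq_top V).ge (hVV.le.trans bot_le) hb hbN
    set B' := replStar B b with hB'
    have hB'mem : B' ∈ maxAbelianSubgroups Y :=
      ⟨h.isMulCommutative_replStar, fun C hC => by rw [h.card_replStar]; exact hB.2 C hC⟩
    have hlt := h.inf_lt hbA
    have hVB : ¬ V ≤ B' := fun hle => hVN (hle.trans h.replStar_le_normalizer)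
    have hB'C : ¬ B' ≤ Subgroup.centralizer (V : Set Y) := by
      intro hle
      apply hVB
      have hsup : IsMulCommutative ↥(B' ⊔ V) :=
        CfsgLib.PLocal.isMulCommutative_sup h.isMulCommutative_replStar inferInstance
          (fun x hx => hle hx)
      have heq : B' = B' ⊔ V := Subgroup.eq_of_le_of_card_ge le_sup_left (hB'mem.2 _ hsup)
      exact heq ▸ le_sup_right
    have hcard := hmax B' ⟨hB'mem, hB'C⟩
    exact absurd (Subgroup.eq_of_le_of_card_ge hlt.le hcard) hlt.ne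

theorem thompsonSubgroupA_le_centralizer [Finite Y] [Fact p.Prime] (hY : IsPGroup p Y)
    (V : Subgroup Y) [V.Normal] (hVc : ∀ u ∈ V, ∀ v ∈ V, u * v = v * u)
    (hker : ∀ a : Y, (∀ v ∈ V, a * v ^ p = v ^ p * a) → a ∈ Subgroup.centralizer (V : Set Y)) :
    thompsonSubgroupA Y ≤ Subgroup.centralizer (V : Set Y) :=
  sSup_le fun _ hA => maxAb_le_centralizer hY V hVc hker hA

end CfsgLib.FusionThompson
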